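import Cfsg.Agent.H1.ONS
import Cfsg.Agent.H3.Frobenius
import Cfsg.Agent.H6.ZStar2
import Cfsg.Agent.H12.Lin
import Cfsg.Agent.H25.TwoClass
import Cfsg.Agent.H26.AutP
import Cfsg.Agent.BG.S01a
import Cfsg.Agent.WA.Main
import Cfsg.Agent.S0228
import Cfsg.Agent.S0252
import Cfsg.Agent.S0253
import Cfsg.Agent.S1012

/-! Groups in which the number of classes of `2`-elements is half the order of a Sylow
`2`-subgroup. -/

set_option autoImplicit false

namespace Cfsg.Agent.GO

open Subgroup Cfsg.Agent.H10 Cfsg.Agent.H11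
open scoped MatrixGroups commutatorElement

variable {G : Type*} [Group G] [Finite G]

theorem le_of_central (hO : pPrimeCore 2 G = ⊥) {N Z : Subgroup G} [hN : N.Normal]
    (hZ : IsSylIn 2 Z N) (hc : N ≤ centralizer (Z : Set G)) : N ≤ Z := by
  obtain ⟨S, hS⟩ := hZ.exists_sylow
  obtain ⟨K, _, h1, h2⟩ := H3.hasNormalPComplement_iff_exists_normal.1
    (H3.hasNormalPComplement_of_sylow_le_center S fun x hx => mem_center_iff.2 fun y =>
      Subtype.ext (hc y.2 x (by rwa [hS] at hx)).symm)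
  have h3 : pPrimeCore 2 N = ⊥ := (OqOf_eq_bot_iff N).1 (by
    rw [OqOf_eq_of_subnormal hN.isSubnormal, hO, inf_bot_eq])
  obtain rfl : K = ⊥ := eq_bot_iff.2 (h3 ▸ le_pPrimeCore
    ((Nat.Prime.coprime_iff_not_dvd Nat.prime_two).2 h1).symm)
  exact (hZ.eq (h2.of_equiv QuotientGroup.quotientBot) hZ.le le_rfl).le

theorem simple_four {L V : Subgroup G} [IsSimpleGroup L] (hL : ¬ IsMulCommutative L)
    (h2 : WA.Ab2 L) (hV : IsSylIn 2 V L) (h4 : Nat.card V = 4) :
    ∃ (F : Type) (_ : Field F) (_ : Fintype F), 3 < Fintype.card F ∧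
      (Fintype.card F % 8 = 3 ∨ Fintype.card F % 8 = 5) ∧ Nonempty (L ≃* PSL(2, F)) := by
  rcases WA.walter hL (subgroupOf_self L ▸ h2.subgroupOf L) with
    ⟨F, _, _, ⟨n, h1, h3⟩, ⟨e⟩⟩ | ⟨F, _, _, h1, h3, e⟩ | h
  · obtain rfl : n = 2 := by
      by_contra hn
      obtain ⟨m, rfl⟩ : ∃ m, n = m + 3 := ⟨n - 3, by omega⟩
      have h5 := H12.card_PSL2 h3
      rw [← Nat.card_congr e.toEquiv, ← H1.card_mul_relIndex hV.le, h4] at h5
      have h6 : Nat.gcd 2 (2 ^ (m + 3) - 1) = 1 := Nat.coprime_two_left.2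
        (Nat.Even.sub_odd Nat.one_le_two_pow (Nat.even_pow.2 ⟨even_two, by omega⟩) odd_one)
      rw [h6, one_mul, pow_add, mul_comm (2 ^ m), mul_assoc] at h5
      exact hV.not_dvd_relIndex (by omega)
    obtain ⟨e1⟩ := S0252.result h3
    haveI : Fact (Nat.Prime 5) := ⟨by norm_num⟩
    obtain ⟨e2⟩ := S0253.result (F := ZMod 5) rfl
    exact ⟨ZMod 5, inferInstance, inferInstance, by rw [ZMod.card]; norm_num, .inr (by rw [ZMod.card]),
      ⟨(e.trans e1).trans e2.symm⟩⟩
  · exact ⟨F, _, _, h3, h1, e⟩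
  · obtain ⟨-, -, -, h3⟩ := h.jat hL h2
    have := (h3 V hV).2
    omega

/-- The configuration in the central quotient. -/
structure KL (S : Sylow 2 G) (V : Subgroup G) (r : G) : Prop where
  odd : pPrimeCore 2 G = ⊥
  le : V ≤ S
  sc : ∀ x ∈ V, ∀ g : G, g * x * g⁻¹ ∈ (S : Subgroup G) → g * x * g⁻¹ ∈ V
  uq : ∀ U ≤ (S : Subgroup G), ∀ a ∈ normalizer (U : Set G), Odd (orderOf a) →
    a ∉ centralizer (U : Set G) → Nat.card U = 4
  rN : r ∈ normalizer (V : Set G)
  ro : Odd (orderOf r)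
  rC : r ∉ centralizer (V : Set G)

namespace KL

variable {S : Sylow 2 G} {V : Subgroup G} {r : G} (h : KL S V r)
include h

theorem card : Nat.card V = 4 := h.uq V h.le r h.rN h.ro h.rC

theorem pg : IsPGroup 2 V := S.2.to_le h.le

theorem comm : IsMulCommutative V :=
  ⟨⟨IsPGroup.commutative_of_card_eq_prime_sq (p := 2) h.card⟩⟩

theorem fpf {a v : G} (h1 : a ∈ normalizer (V : Set G)) (h2 : Odd (orderOf a))
    (h3 : a ∉ centralizer (V : Set G)) (hv : v ∈ V) (e : v * a = a * v) : v = 1 := by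
  by_contra h4
  refine h3 (H25.mem_centralizer_of_card_le_two_mul h1 ?_ ?_)
  · rw [h.card]; exact (Nat.coprime_two_right.2 h2).pow_right 2
  · have := (one_lt_card_iff_ne_bot (V ⊓ centralizer {a})).2 fun e' =>
      h4 (mem_bot.1 (e' ▸ ⟨hv, mem_cent1.2 e⟩))
    rw [h.card]; omega

theorem irr {a : G} (h1 : a ∈ normalizer (V : Set G)) (h2 : Odd (orderOf a))
    (h3 : a ∉ centralizer (V : Set G)) {M : Subgroup G} (hM : ∀ x ∈ V ⊓ M, a * x * a⁻¹ ∈ M)
    (h0 : V ⊓ M ≠ ⊥) : V ≤ M := by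
  have h4 : a ∈ normalizer ((V ⊓ M : Subgroup G) : Set G) := H3.mem_normalizer_of_conj_mem
    fun x hx => ⟨(mem_normalizer_iff.1 h1 x).1 hx.1, hM x hx⟩
  have h5 : Nat.card (V ⊓ M : Subgroup G) ∣ 2 ^ 2 := (card_dvd_of_le inf_le_left).trans h.card.dvd
  obtain ⟨k, hk, h6⟩ := (Nat.dvd_prime_pow Nat.prime_two).1 h5
  by_cases h7 : k = 2
  · exact inf_eq_left.1 (eq_of_le_of_card_ge inf_le_left (by rw [h.card, h6, h7]; rfl))
  obtain ⟨v, hv, h8⟩ := (bot_or_exists_ne_one _).resolve_left h0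
  refine absurd (h.fpf h1 h2 h3 hv.1 (H25.mem_centralizer_of_card_le_two_mul h4 ?_ ?_ v hv)) h8
  · rw [h6]; exact (Nat.coprime_two_right.2 h2).pow_right k
  · have : 0 < Nat.card (V ⊓ M ⊓ centralizer {a} : Subgroup G) := Nat.card_pos
    have : 2 ^ k ≤ 2 ^ 1 := Nat.pow_le_pow_right two_pos (by omega)
    omega

theorem ne : V ≠ ⊥ := fun e => by simpa [e] using h.card

theorem sq {v : G} (hv : v ∈ V) : v * v = 1 := by
  have c : ∀ a ∈ V, ∀ b ∈ V, a * b = b * a := fun a ha b hb =>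
    congrArg Subtype.val (h.comm.1.1 ⟨a, ha⟩ ⟨b, hb⟩)
  let M : Subgroup G :=
    { carrier := {s | s ∈ V ∧ s * s = 1}
      one_mem' := ⟨one_mem _, one_mul _⟩
      mul_mem' := fun {a b} ha hb => ⟨mul_mem ha.1 hb.1, by
        rw [mul_assoc, ← mul_assoc b, ← c a ha.1 b hb.1, mul_assoc, hb.2, mul_one, ha.2]⟩
      inv_mem' := fun {a} ha => ⟨inv_mem ha.1, by rw [← mul_inv_rev, ha.2, inv_one]⟩ }
  obtain ⟨z, h1, h4, -⟩ := exists_central_orderOf h.pg h.pg le_normalizer h.ne
  have h2 : z ≠ 1 := by rintro rfl; simp at h4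
  have h3 : z * z = 1 := (_root_.sq z).symm.trans (orderOf_dvd_iff_pow_eq_one.1 h4.dvd)
  refine (h.irr h.rN h.ro h.rC (M := M) (fun x hx => ⟨(mem_normalizer_iff.1 h.rN x).1 hx.1, ?_⟩)
    (fun e => h2 (mem_bot.1 (e ▸ ⟨h1, h1, h3⟩))) hv).2
  rw [show r * x * r⁻¹ * (r * x * r⁻¹) = r * (x * x) * r⁻¹ by group, hx.2.2]; group

theorem aut : Nat.card (MulAut V) = 6 :=
  haveI := h.comm
  H26.card_mulAut_of_elementary (p := 2) (r := 2)
    (fun x => Subtype.ext (by simpa [_root_.sq] using h.sq x.2)) h.card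

theorem SN : (S : Subgroup G) ≤ normalizer (V : Set G) := fun s hs =>
  H3.mem_normalizer_of_conj_mem fun x hx =>
    h.sc x hx s (mul_mem (mul_mem hs (h.le hx)) (inv_mem hs))

theorem cent : (S : Subgroup G) ⊓ centralizer (V : Set G) ≤ V := by
  have h1 : IsSylIn 2 ((S : Subgroup G) ⊓ centralizer (V : Set G)) (centralizer (V : Set G)) :=
    ((isSylIn_top S).of_le h.SN le_top).inf_of_normalized (centralizer_le_normalizer _)
      (normalizer_le_normalizer_centralizer V)
  obtain ⟨n, hn, h2⟩ := h1.frattini (normalizer_le_normalizer_centralizer V h.rN)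
  obtain ⟨k, hk⟩ := exists_pow_odd_part (n * r)
  have h3 : V ≤ (S : Subgroup G) ⊓ centralizer (V : Set G) :=
    le_inf h.le (haveI := h.comm; le_centralizer V)
  refine (eq_of_le_of_card_ge h3 ?_).ge
  rw [h.card, h.uq _ inf_le_left _ (pow_mem h2 _) hk fun e => h.rC ?_]
  let f := normalizerMonoidHom V
  have kf : ∀ x : normalizer (V : Set G), f x = 1 ↔ (x : G) ∈ centralizer (V : Set G) := fun x => by
    rw [← MonoidHom.mem_ker, normalizerMonoidHom_ker, mem_subgroupOf]
  have h4 : f ⟨r, h.rN⟩ ^ 2 ^ k = 1 := by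
    have e1 := (kf ((⟨n, centralizer_le_normalizer _ hn⟩ * ⟨r, h.rN⟩) ^ 2 ^ k)).2
      (centralizer_le h3 e)
    rwa [map_pow, map_mul, (kf ⟨n, _⟩).2 hn, one_mul] at e1
  refine (kf ⟨r, h.rN⟩).1 (orderOf_eq_one_iff.1 (Nat.eq_one_of_dvd_coprimes
    ((Nat.coprime_two_left.2 h.ro).pow_left k) (orderOf_dvd_of_pow_eq_one h4) ?_))
  exact (orderOf_map_dvd f _).trans (orderOf_coe (⟨r, h.rN⟩ : normalizer _)).symm.dvd

theorem le_of_normal {M : Subgroup G} [hM : M.Normal] (h0 : M ≠ ⊥) : V ≤ M := by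
  have h1 : IsSylIn 2 ((S : Subgroup G) ⊓ M) M :=
    (isSylIn_top S).inf_of_normalized le_top (normalizer_eq_top M).ge
  have h2 : (S : Subgroup G) ⊓ M ≠ ⊥ := fun e => h0 (eq_bot_iff.2 (h.odd ▸ le_pPrimeCore
    ((Nat.Prime.coprime_iff_not_dvd Nat.prime_two).2 (by
      have := h1.not_dvd_relIndex
      rwa [e, relIndex_bot_left] at this)).symm))
  obtain ⟨z, z1, z2, z3⟩ := exists_mem_centralizer_of_normalized S.2 h1.pg h2 fun s hs =>
    H3.mem_normalizer_of_conj_mem fun x hx =>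
      ⟨(S : Subgroup G).mul_mem ((S : Subgroup G).mul_mem hs hx.1) (inv_mem hs), hM.conj_mem _ hx.2 _⟩
  exact h.irr h.rN h.ro h.rC (fun x hx => hM.conj_mem _ hx.2 _) fun e => z2 (mem_bot.1
    (e ▸ ⟨h.cent ⟨z1.1, fun v hv => z3 v (h.le hv)⟩, z1.2⟩))

theorem der : _root_.commutator G ⊓ S ≤ V := by
  have h1 : V.relIndex S ∣ 2 := by
    have e : V.relIndex S = (centralizer (V : Set G)).relIndex S := by
      rw [← inf_relIndex_right (centralizer (V : Set G)), inf_comm, le_antisymm h.cent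
        (le_inf h.le (haveI := h.comm; le_centralizer V))]
    obtain ⟨k, hk⟩ := S.isPGroup'.index (V.subgroupOf S)
    have h2 := h.aut ▸ BG.relIndex_cent_dvd_card_mulAut h.SN
    rw [← e, relIndex, hk] at h2
    rw [relIndex, hk]
    exact (Nat.Coprime.pow_left k (by norm_num : Nat.Coprime 2 3)).dvd_of_dvd_mul_right h2
  rw [commutator_inf_eq_focalSubgroup, focalSubgroup_def, closure_le]
  rintro _ ⟨h2, x, hx, u, rfl⟩
  have h3 : u * x⁻¹ * u⁻¹ ∈ (S : Subgroup G) := by
    have := mul_mem (inv_mem hx) h2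
    rwa [commutatorElement_def, show x⁻¹ * (x * u * x⁻¹ * u⁻¹) = u * x⁻¹ * u⁻¹ by group] at this
  rw [SetLike.mem_coe, commutatorElement_def, mul_assoc x, mul_assoc x]
  rcases (Nat.dvd_prime Nat.prime_two).1 h1 with e | e
  · exact relIndex_eq_one.1 e (mul_mem hx h3)
  · refine (mul_mem_iff_of_index_two (H := V.subgroupOf S) e (a := ⟨x, hx⟩) (b := ⟨_, h3⟩)).2
      ⟨fun e => h.sc _ (inv_mem e) u h3, fun e => ?_⟩
    have := h.sc _ e u⁻¹ (by simpa [mul_assoc] using hx)
    simpa [mul_assoc, mem_subgroupOf] using this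

theorem solv [hV : V.Normal] :
    Nonempty (G ≃* alternatingGroup (Fin 4)) ∨ Nonempty (G ≃* Equiv.Perm (Fin 4)) := by
  have c1 : V ≤ centralizer (V : Set G) := haveI := h.comm; le_centralizer V
  have s1 := (isSylIn_top S).inf_of_normalized (N := centralizer (V : Set G)) le_top
    (normalizer_eq_top _).ge
  rw [le_antisymm h.cent (le_inf h.le c1)] at s1
  have hC : centralizer (V : Set G) = V := le_antisymm (le_of_central h.odd s1 le_rfl) c1
  have hN : ∀ g : G, g ∈ normalizer (V : Set G) := fun g => (normalizer_eq_top V).ge trivial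
  have h1 : V.index ∣ 6 := by
    have := h.aut ▸ BG.relIndex_cent_dvd_card_mulAut (H := ⊤) (X := V) fun g _ => hN g
    rwa [hC, relIndex_top_right] at this
  have h2 : ¬ V.index ∣ 2 := fun e => h.rC (c1 (by
    have e1 : orderOf (r : G ⧸ V) ∣ 2 := (_root_.orderOf_dvd_natCard _).trans e
    exact (QuotientGroup.eq_one_iff r).1 (orderOf_eq_one_iff.1 (Nat.eq_one_of_dvd_coprimes
      (Nat.coprime_two_left.2 h.ro) e1 (orderOf_map_dvd (QuotientGroup.mk' V) r)))))
  have h3 : V.index = 3 ∨ V.index = 6 := by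
    have := Nat.le_of_dvd (by norm_num) h1
    interval_cases V.index <;> simp_all
  have h4 := V.card_mul_index
  rw [h.card] at h4
  rcases h3 with e | e
  · refine .inl (S0228.result (by omega) fun z z2 hz => ?_)
    haveI : (zpowers z).Normal := ⟨fun x hx g => by
      rwa [mem_center_iff.1 (zpowers_le.2 hz hx) g, mul_inv_cancel_right]⟩
    have := card_le_of_le (h.le_of_normal (M := zpowers z) (by
      rw [Ne, zpowers_eq_bot]; rintro rfl; simp at z2))
    rw [h.card, Nat.card_zpowers] at this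
    omega
  · refine .inr (S1012.result (by omega) fun g hg => ?_)
    have o2 : orderOf (g ^ 2) = 3 := by rw [orderOf_pow, hg]; rfl
    have o3 : orderOf (g ^ 3) = 2 := by rw [orderOf_pow, hg]; rfl
    have n2 : g ^ 2 ∉ centralizer (V : Set G) := fun e => by
      have := orderOf_dvd_natCard V (hC ▸ e)
      rw [o2, h.card] at this; omega
    have od : Odd (orderOf (g ^ 2)) := o2 ▸ by decide
    have c : g ^ 3 * g ^ 2 = g ^ 2 * g ^ 3 := by group
    obtain ⟨z, z1, z2, z3⟩ := exists_mem_centralizer_of_normalized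
      (isPGroup_zpowers_of_orderOf (p := 2) (k := 1) o3) h.pg h.ne fun x _ => hN x
    have h5 := h.irr (hN _) od n2 (M := centralizer {g ^ 3}) (fun x hx => mul_mem (mul_mem
      (mem_cent1.2 c.symm) hx.2) (inv_mem (mem_cent1.2 c.symm))) fun e => z2 (mem_bot.1
        (e ▸ ⟨z1, mem_cent1.2 (z3 _ (mem_zpowers _)).symm⟩))
    have h6 := h.fpf (hN _) od n2 (hC ▸ fun v hv => mem_cent1.1 (h5 hv)) c
    rw [h6] at o3; simp at o3

theorem main : Nonempty (G ≃* alternatingGroup (Fin 4)) ∨ Nonempty (G ≃* Equiv.Perm (Fin 4)) ∨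
    ∃ L : Subgroup G, L.Normal ∧ IsSimpleGroup L ∧ ¬ IsMulCommutative L ∧
      centralizer (L : Set G) = ⊥ ∧ ∃ (F : Type) (_ : Field F) (_ : Fintype F),
        3 < Fintype.card F ∧ (Fintype.card F % 8 = 3 ∨ Fintype.card F % 8 = 5) ∧
          Nonempty (L ≃* PSL(2, F)) := by
  obtain ⟨M, hM, -⟩ := H2.exists_isMinNormal_le (N := (⊤ : Subgroup G)) inferInstance
    fun e => h.ne (eq_bot_iff.2 (e ▸ le_top))
  haveI := hM.normal
  have h1 := h.le_of_normal hM.ne_bot
  by_cases hc : IsMulCommutative M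
  · obtain ⟨p, hp, h2⟩ := hM.exists_prime_of_isMulCommutative
    obtain ⟨z, z1, z2, -⟩ := exists_central_orderOf h.pg h.pg le_normalizer h.ne
    obtain rfl : 2 = p := (Nat.prime_dvd_prime_iff_eq Nat.prime_two hp).1
      (z2 ▸ orderOf_dvd_of_pow_eq_one (h2 z (h1 z1)))
    have h3 : IsPGroup 2 M := fun x => ⟨1, Subtype.ext (h2 x x.2)⟩
    obtain rfl : V = M := le_antisymm h1 ((le_inf (h3.le_sylow_of_normal S)
      ((le_centralizer M).trans (centralizer_le h1))).trans h.cent)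
    exact or_assoc.1 (.inl h.solv)
  obtain ⟨T, hT⟩ := H1.exists_fac hM hc
  have p1 : ⁅M, M⁆ = M := (hM.min _ inferInstance (commutator_le_left M M)).resolve_left fun e =>
    hc (le_centralizer_iff_isMulCommutative.1 (commutator_eq_bot_iff_le_centralizer.1 e))
  have s1 : IsSylIn 2 V M := by
    have := (isSylIn_top S).inf_of_normalized (N := M) le_top (normalizer_eq_top M).ge
    rwa [le_antisymm ((inf_comm _ _).le.trans ((inf_le_inf_right _ (p1.ge.trans
      (commutator_mono le_top le_top))).trans h.der)) (le_inf h.le h1)] at this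
  have a1 : WA.Ab2 M := fun U hU h2 a ha b hb => by
    obtain ⟨g, -, h3⟩ := s1.exists_cj_le h2 hU
    have := congrArg Subtype.val (h.comm.1.1 ⟨_, h3 (mem_map_of_mem _ ha)⟩ ⟨_, h3 (mem_map_of_mem _ hb)⟩)
    exact (MulAut.conj g).injective ((map_mul _ a b).trans (this.trans (map_mul _ b a).symm))
  have k : ∀ T, H1.Fac M T → V ≤ T := fun T hT => by
    haveI := hT.simple
    have := WA.four hT.na' (fun U hU => a1 U (hU.trans hT.le)) (s1.inf_of_normalized hT.le hT.norm)
    exact inf_eq_left.1 (eq_of_le_of_card_ge inf_le_left (h.card.le.trans this))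
  obtain rfl : T = M := le_antisymm hT.le (hT.le_of_cj fun g => le_of_eq (by
    by_contra e
    exact h.ne (eq_bot_iff.2 ((le_inf (k _ (hT.cj g)) (k _ hT)).trans ((hT.cj g).inf hT e).le))))
  haveI := hT.simple
  refine .inr (.inr ⟨T, hM.normal, hT.simple, hc, ?_, simple_four hc a1 s1 h.card⟩)
  by_contra e
  exact h.ne (eq_bot_iff.2 ((le_inf h1 (h.le_of_normal e)).trans hT.inf_cent.le))

end KL

theorem three_dvd {P : Type*} [Group P] [Finite P] :
    Nat.card P * Nat.card P ≡ Nat.card (ConjClasses P) * Nat.card P [MOD 3] := by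
  classical
  haveI := Fintype.ofFinite P
  let A := {p : P × P // ¬ Commute p.1 p.2}
  let f : Function.End A := fun p => ⟨(p.1.2, (p.1.1 * p.1.2)⁻¹), fun e => p.2 (by
    have e1 := e.inv_right.eq
    rw [inv_inv, ← mul_assoc] at e1
    exact (mul_right_cancel e1).symm)⟩
  have h1 : f ^ 3 ^ 1 = 1 := by
    funext p
    refine Subtype.ext (Prod.ext ?_ ?_)
    · change (p.1.2 * (p.1.1 * p.1.2)⁻¹)⁻¹ = p.1.1
      group
    · change ((p.1.1 * p.1.2)⁻¹ * (p.1.2 * (p.1.1 * p.1.2)⁻¹)⁻¹)⁻¹ = p.1.2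
      group
  haveI : Fact (Nat.Prime 3) := ⟨Nat.prime_three⟩
  have h2 := Equiv.Perm.card_fixedPoints_modEq h1
  haveI : IsEmpty (Function.fixedPoints f) := ⟨fun p => p.1.2 (by
    have e : p.1.1.2 = p.1.1.1 := congrArg (fun x : A => x.1.1) p.2
    rw [e])⟩
  rw [Fintype.card_eq_zero (α := Function.fixedPoints f), Fintype.card_subtype_compl,
    ← Nat.card_eq_fintype_card, ← Nat.card_eq_fintype_card, card_comm_eq_card_conjClasses_mul_card,
    Nat.card_prod] at h2
  have h3 : Nat.card (ConjClasses P) ≤ Nat.card P :=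
    Nat.card_le_card_of_surjective _ ConjClasses.mk_surjective
  exact ((Nat.modEq_iff_dvd' (Nat.mul_le_mul_right _ h3)).2 ((Nat.modEq_zero_iff_dvd).1 h2)).symm

/-- The number of conjugates of `x` in `P`. -/
noncomputable def wt (P : Subgroup G) (x : G) : ℕ := {y | y ∈ P ∧ IsConj x y}.ncard

theorem center_le (P : Sylow 2 G) (hO : pPrimeCore 2 G = ⊥) : center G ≤ P := by
  have h := (isSylIn_top P).inf_of_normalized (N := center G) le_top (normalizer_eq_top _).ge
  exact (le_of_central hO h fun x hx y _ => mem_center_iff.1 hx y).trans inf_le_left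

theorem big_le (P : Sylow 2 G) (hO : pPrimeCore 2 G = ⊥)
    (hk : 2 * Nat.card (H25.PCl 2 G) = Nat.card (P : Subgroup G)) {B : Set G}
    (hB : ∀ x ∈ B, x ∈ (P : Subgroup G) ∧ 3 ≤ wt P x) : B.ncard ≤ 3 * Nat.card (center G) := by
  classical
  haveI := Fintype.ofFinite G
  let s : Finset G := Finset.univ.filter (· ∈ (P : Subgroup G))
  have hs : ∀ x, x ∈ s ↔ x ∈ (P : Subgroup G) := fun x => by simp [s]
  have hw : ∀ x, wt P x = (s.filter fun a => ConjClasses.mk a = ConjClasses.mk x).card := fun x => by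
    rw [wt, ← Set.ncard_coe_finset]
    congr 1
    ext y
    simp [hs, ConjClasses.mk_eq_mk_iff_isConj, isConj_comm, -isConj_iff]
  have h0 : ∀ x ∈ s, 0 < wt P x := fun x hx =>
    hw x ▸ Finset.card_pos.2 ⟨x, Finset.mem_filter.2 ⟨hx, rfl⟩⟩
  have h1 : Nat.card (H25.PCl 2 G) = (s.image ConjClasses.mk).card := by
    rw [← Nat.card_eq_finsetCard]
    refine Nat.card_congr (Equiv.subtypeEquivRight fun c => ⟨fun hc => ?_, fun hc => ?_⟩)
    · obtain ⟨x, hx, e⟩ := H25.exists_mem_sylow_mk_eq P ⟨c, hc⟩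
      exact Finset.mem_image.2 ⟨x, (hs x).2 hx, e⟩
    · obtain ⟨x, hx, rfl⟩ := Finset.mem_image.1 hc
      exact (H25.forall_mem_carrier_mk_iff (P := fun n => ∃ k, n = 2 ^ k)).2
        (H25.exists_orderOf_eq_of_mem_sylow P ((hs x).1 hx))
  have h2 : ∑ x ∈ s, (6 / wt P x : ℚ) = 6 * Nat.card (H25.PCl 2 G) := by
    simp_rw [hw]
    rw [Finset.sum_comp (fun c => (6 / ((s.filter fun a => ConjClasses.mk a = c).card : ℚ))), h1,
      Finset.card_eq_sum_ones, Nat.cast_sum, Finset.mul_sum]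
    refine Finset.sum_congr rfl fun c hc => ?_
    obtain ⟨x, hx, rfl⟩ := Finset.mem_image.1 hc
    have := h0 x hx
    rw [hw] at this
    rw [nsmul_eq_mul]
    field_simp
    simp
  have h3 : ∀ x ∈ s, (6 / wt P x : ℚ) ≤
      3 + 3 * (if x ∈ center G then 1 else 0) - (if x ∈ B then 1 else 0) := fun x hx => by
    have p0 : (0 : ℚ) < wt P x := by exact_mod_cast h0 x hx
    rw [div_le_iff₀ p0]
    by_cases e : x ∈ B
    · have : (3 : ℚ) ≤ wt P x := by exact_mod_cast (hB x e).2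
      rw [if_pos e]
      split_ifs <;> linarith
    rw [if_neg e]
    split_ifs with e'
    · have : (1 : ℚ) ≤ wt P x := by exact_mod_cast h0 x hx
      linarith
    · have : 2 ≤ wt P x := by
        by_contra h4
        refine e' (mem_center_iff.2 fun g => ?_)
        have h5 := H6.zstar_closed P ((hs x).1 hx) (fun g hg => ((Set.ncard_le_one_iff
          (Set.toFinite _)).1 (show wt P x ≤ 1 by omega) ⟨hg, isConj_iff.2 ⟨g, rfl⟩⟩
            ⟨(hs x).1 hx, IsConj.refl x⟩)) g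
        rw [hO, mem_bot, mul_inv_eq_one, mul_inv_eq_iff_eq_mul] at h5
        exact h5.symm
      have : (2 : ℚ) ≤ wt P x := by exact_mod_cast this
      linarith
  have h4 := Finset.sum_le_sum h3
  have c1 : (s.filter (· ∈ center G)).card = Nat.card (center G) := by
    rw [← Nat.card_eq_finsetCard]
    exact Nat.card_congr (Equiv.subtypeEquivRight fun x => by
      simpa [hs] using fun h => center_le P hO h)
  have c2 : (s.filter (· ∈ B)).card = B.ncard := by
    rw [← Set.ncard_coe_finset]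
    congr 1
    ext x
    simpa [hs] using fun h => (hB x h).1
  have c3 : s.card = 2 * Nat.card (H25.PCl 2 G) := by
    rw [hk, ← Nat.card_eq_finsetCard]
    exact Nat.card_congr (Equiv.subtypeEquivRight hs)
  rw [h2, Finset.sum_sub_distrib, Finset.sum_add_distrib, ← Finset.mul_sum, Finset.sum_boole,
    Finset.sum_boole, c1, c2, Finset.sum_const, c3, nsmul_eq_mul] at h4
  push_cast at h4
  have : (B.ncard : ℚ) ≤ 3 * Nat.card (center G) := by linarith
  exact_mod_cast this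

theorem key (P : Sylow 2 G) (hO : pPrimeCore 2 G = ⊥)
    (hk : 2 * Nat.card (H25.PCl 2 G) = Nat.card (P : Subgroup G)) {Q : Subgroup G} (hQ : Q ≤ P)
    (hY : center G ≤ Q) {a : G} (h1 : a ∈ normalizer (Q : Set G)) (h2 : Odd (orderOf a))
    (h3 : a ∉ centralizer (Q : Set G)) : Nat.card Q = 4 * Nat.card (center G) ∧
      ∀ x ∈ Q, ∀ g : G, g * x * g⁻¹ ∈ (P : Subgroup G) → g * x * g⁻¹ ∈ Q := by
  set F := Q ⊓ centralizer {a}
  obtain ⟨b, hb⟩ := (P.2.to_le hQ).exists_card_eq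
  obtain ⟨c, hc⟩ := ((P.2.to_le hQ).to_le (inf_le_left : F ≤ _)).exists_card_eq
  have h4 : 4 * Nat.card F ≤ Nat.card Q := by
    have : 2 * Nat.card F < Nat.card Q := not_le.1 fun e => h3
      (H25.mem_centralizer_of_card_le_two_mul h1 (hb ▸ (Nat.coprime_two_right.2 h2).pow_right b) e)
    rw [hc, hb, ← pow_succ'] at this
    rw [hc, hb, show 4 * 2 ^ c = 2 ^ (c + 2) by ring]
    exact Nat.pow_le_pow_right two_pos ((Nat.pow_lt_pow_iff_right one_lt_two).1 this)
  have h5 : center G ≤ F := le_inf hY fun x hx => mem_cent1.2 (mem_center_iff.1 hx a).symm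
  have h6 : ∀ x ∈ (Q : Set G) \ F, x ∈ (P : Subgroup G) ∧ 3 ≤ wt P x := fun x hx => by
    have e : a * x ≠ x * a := fun e => hx.2 ⟨hx.1, mem_cent1.2 e.symm⟩
    refine ⟨hQ hx.1, (H25.three_le_ncard_conj (F := ⊥) h1 h2 hx.1 (fun y hy => by simpa using hy)
      (fun e' => e (by rw [mem_bot.1 e']; simp)) e).trans
        (Set.ncard_le_ncard (fun y hy => ⟨hQ hy.1, hy.2.2⟩) (Set.toFinite _))⟩
  have h7 : ((Q : Set G) \ F).ncard + Nat.card F = Nat.card Q :=
    Set.ncard_diff_add_ncard_of_subset (inf_le_left : F ≤ Q) (Set.toFinite _)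
  have h8 := big_le P hO hk h6
  have h9 := card_le_of_le h5
  refine ⟨by omega, fun x hx g hg => ?_⟩
  by_cases e : x ∈ F
  · rwa [mem_center_iff.1 ((eq_of_le_of_card_ge h5 (by omega)).ge e) g, mul_inv_cancel_right]
  by_contra e'
  have := big_le P hO hk (B := insert (g * x * g⁻¹) ((Q : Set G) \ F)) (by
    rintro _ (rfl | h)
    · refine ⟨hg, (h6 x ⟨hx, e⟩).2.trans (Set.ncard_le_ncard (fun y hy => ⟨hy.1, ?_⟩) (Set.toFinite _))⟩
      exact (isConj_iff.2 ⟨g, rfl⟩).symm.trans hy.2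
    · exact h6 _ h)
  rw [Set.ncard_insert_of_notMem (fun h => e' h.1) (Set.toFinite _)] at this
  omega

omit [Finite G] in
theorem mem_of_odd {U : Subgroup G} {a : G} (h : Odd (orderOf a)) {k : ℕ} (e : a ^ 2 ^ k ∈ U) :
    a ∈ U := by
  have := Nat.gcd_eq_gcd_ab (2 ^ k) (orderOf a)
  rw [((Nat.coprime_two_left.2 h).pow_left k).gcd_eq_one] at this
  rw [← zpow_one a, show (1 : ℤ) = ((1 : ℕ) : ℤ) from rfl, this, zpow_add, zpow_mul, zpow_mul,
    zpow_natCast, zpow_natCast, pow_orderOf_eq_one, one_zpow, mul_one]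
  exact zpow_mem e _

theorem exists_kl (P : Sylow 2 G) (hO : pPrimeCore 2 G = ⊥)
    (hk : 2 * Nat.card (H25.PCl 2 G) = Nat.card (P : Subgroup G)) :
    ∃ (S : Sylow 2 (G ⧸ center G)) (V : Subgroup (G ⧸ center G)) (r : G ⧸ center G), KL S V r := by
  have hn : ¬ HasNormalPComplement 2 G := fun h => by
    have h1 := three_dvd (P := (P : Subgroup G))
    obtain ⟨n, h2⟩ := P.isPGroup'.exists_card_eq
    rw [← H25.card_pCl_eq_of_hasNormalPComplement h P, ← hk] at h1
    rw [← hk] at h2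
    have h3 : 3 ∣ Nat.card (H25.PCl 2 G) * (2 * Nat.card (H25.PCl 2 G)) := by
      have := (Nat.modEq_iff_dvd' (Nat.mul_le_mul_right _ (by omega))).1 h1.symm
      rwa [← Nat.sub_mul, show 2 * Nat.card (H25.PCl 2 G) - Nat.card (H25.PCl 2 G) =
        Nat.card (H25.PCl 2 G) by omega] at this
    have h4 : 3 ∣ 2 ^ n := h2 ▸ ((Nat.prime_three.dvd_mul.1 h3).elim (·.mul_left 2) id)
    exact absurd (Nat.prime_three.dvd_of_dvd_pow h4) (by norm_num)
  obtain ⟨X, hX, g, g1, g2, g3⟩ : ∃ X ≤ (P : Subgroup G), ∃ g ∈ normalizer (X : Set G),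
      Odd (orderOf g) ∧ g ∉ centralizer (X : Set G) := by
    by_contra! e
    exact hn (H3.hasNormalPComplement_of_forall_le P fun X hX _ g h1 h2 =>
      e X hX g h1 (Nat.coprime_two_right.1 h2))
  have hY := center_le P hO
  set π := QuotientGroup.mk' (center G)
  have hπ := QuotientGroup.mk'_surjective (center G)
  have kπ : π.ker = center G := QuotientGroup.ker_mk' _
  have hP : ∀ x, π x ∈ ((P.mapSurjective hπ : Sylow 2 _) : Subgroup _) → x ∈ (P : Subgroup G) :=
    fun x hx => by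
      have : x ∈ ((P : Subgroup G).map π).comap π := hx
      rwa [comap_map_eq, kπ, sup_eq_left.2 hY] at this
  have g4 : g ∈ normalizer ((X ⊔ center G : Subgroup G) : Set G) :=
    normalizer_inf_normalizer_le_normalizer_sup _ _ ⟨g1, (normalizer_eq_top _).ge trivial⟩
  have g5 : g ∉ centralizer ((X ⊔ center G : Subgroup G) : Set G) := fun e =>
    g3 (centralizer_le (show X ≤ X ⊔ center G from le_sup_left) e)
  refine ⟨P.mapSurjective hπ, (X ⊔ center G).map π, π g, ?_, map_mono (sup_le hX hY), ?_, ?_,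
    le_normalizer_map π (mem_map_of_mem π g4), g2.of_dvd_nat (orderOf_map_dvd π g), fun e => g5 ?_⟩
  · have s1 := (isSylIn_top P).inf_of_normalized (N := (pPrimeCore 2 (G ⧸ center G)).comap π) le_top
      (normalizer_eq_top _).ge
    have s2 : (P : Subgroup G) ⊓ (pPrimeCore 2 (G ⧸ center G)).comap π ≤ center G := fun x hx => by
      obtain ⟨k, h1⟩ := H25.exists_orderOf_eq_of_mem_sylow P hx.1
      exact kπ.le (orderOf_eq_one_iff.1 (Nat.eq_one_of_dvd_coprimes
        ((pPrimeCore_coprime 2 _).pow_right k) (Subgroup.orderOf_dvd_natCard _ hx.2)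
          (h1 ▸ orderOf_map_dvd π x)))
    have := (le_of_central hO s1 fun x _ y hy => (mem_center_iff.1 (s2 hy) x).symm).trans s2
    rw [← map_comap_eq_self_of_surjective hπ (pPrimeCore 2 _), Subgroup.map_eq_bot_iff, kπ]
    exact this
  · rintro _ ⟨x, hx, rfl⟩ u hu
    obtain ⟨u, rfl⟩ := hπ u
    rw [← map_inv, ← map_mul, ← map_mul] at hu ⊢
    exact mem_map_of_mem π ((key P hO hk (sup_le hX hY) le_sup_right g4 g2 g5).2 x hx u (hP _ hu))
  · intro U hU a a1 a2 a3
    obtain ⟨a, rfl⟩ := hπ a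
    obtain ⟨k, h1⟩ := exists_pow_odd_part a
    have h2 : center G ≤ U.comap π := kπ.ge.trans (ker_le_comap π U)
    have h3 := (key P hO hk (Q := U.comap π) (fun x hx => hP x (hU hx)) h2
      (pow_mem (le_normalizer_comap π a1) _) h1 fun e => a3 (mem_of_odd a2 (k := k) fun u hu => by
        obtain ⟨u, rfl⟩ := hπ u
        rw [← map_pow, ← map_mul, ← map_mul, e u hu])).1
    have h4 := H1.card_map_mul_card_ker_inf π (U.comap π)
    rw [map_comap_eq_self_of_surjective hπ, kπ, inf_eq_left.2 h2, h3] at h4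
    exact Nat.eq_of_mul_eq_mul_right Nat.card_pos h4
  · intro x hx
    have h1 : x⁻¹ * (g * x * g⁻¹) ∈ center G := kπ.le (by
      rw [MonoidHom.mem_ker, map_mul, map_mul, map_mul, ← e _ (mem_map_of_mem π hx)]; simp)
    set y := x⁻¹ * (g * x * g⁻¹) with hy
    have h2 : ∀ n : ℕ, g ^ n * x = x * y ^ n * g ^ n := fun n => by
      induction n with
      | zero => simp
      | succ n ih =>
        have e1 : g * x = x * y * g := by rw [hy]; group
        have e2 := mem_center_iff.1 (pow_mem h1 n) g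
        calc g ^ (n + 1) * x = (g * x) * y ^ n * g ^ n := by
              rw [pow_succ', mul_assoc, ih]; group
          _ = x * y * (g * y ^ n) * g ^ n := by rw [e1]; group
          _ = _ := by rw [e2, pow_succ' y, pow_succ' g]; group
    have h3 := h2 (orderOf g)
    rw [pow_orderOf_eq_one, one_mul, mul_one, left_eq_mul] at h3
    obtain ⟨k, h4⟩ := H25.exists_orderOf_eq_of_mem_sylow P (hY h1)
    have h5 : y = 1 := orderOf_eq_one_iff.1 (Nat.eq_one_of_dvd_coprimes
      ((Nat.coprime_two_right.2 g2).pow_right k) (orderOf_dvd_of_pow_eq_one h3) h4.dvd)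
    rw [hy, inv_mul_eq_one, eq_mul_inv_iff_mul_eq] at h5
    exact h5

end Cfsg.Agent.GO
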